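import Groth.Agent.AlgSpDec.ConstrTop
import Mathlib.RingTheory.Spectrum.Prime.Topology
import Mathlib.RingTheory.Spectrum.Prime.ConstructibleSet
import Mathlib.RingTheory.LocalRing.ResidueField.Ideal
import Mathlib.RingTheory.FinitePresentation
import Mathlib.RingTheory.Localization.Away.Basic

/-!
# Finitely many finitely presented pieces, and spreading out a point with values in a residue field
-/

set_option autoImplicit false

universe u

namespace Groth.Agent.ConstrCover

/-- A predicate on pieces `V(I) ∩ D(g)` holding around every prime holds on finitely many covering pieces. -/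
theorem exists_finite_cover {R : Type u} [CommRing R] (P : Ideal R → R → Prop)
    (h : ∀ q : Ideal R, q.IsPrime → ∃ I g, I.FG ∧ P I g ∧ I ≤ q ∧ g ∉ q) :
    ∃ L : Finset (Ideal R × R), (∀ x ∈ L, x.1.FG ∧ P x.1 x.2) ∧
      ∀ q : Ideal R, q.IsPrime → ∃ x ∈ L, x.1 ≤ q ∧ x.2 ∉ q := by
  classical
  let π := WithTopology.ofTopology (t := constructibleTopology (PrimeSpectrum R))
  let ι := {x : Ideal R × R // x.1.FG ∧ P x.1 x.2}
  let Z : ι → Set (PrimeSpectrum R) := fun x =>
    PrimeSpectrum.zeroLocus (x.1.1 : Set R) ∩ (PrimeSpectrum.basicOpen x.1.2 : Set (PrimeSpectrum R))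
  have ho : ∀ x, IsOpen (π ⁻¹' Z x) := by
    intro x
    have hz : Topology.IsConstructible (PrimeSpectrum.zeroLocus (x.1.1 : Set R)) := by
      refine Topology.isConstructible_compl.1 ?_
      obtain ⟨s, hs⟩ := x.2.1
      refine (IsCompact.isConstructible ?_ (PrimeSpectrum.isClosed_zeroLocus _).isOpen_compl)
      rw [← hs, PrimeSpectrum.zeroLocus_span]
      exact PrimeSpectrum.isCompact_isOpen_iff.2 ⟨s, rfl⟩ |>.1
    exact (AlgSpDec.isClopen_of_isConstructible
      (hz.inter ((PrimeSpectrum.isCompact_basicOpen _).isConstructible (PrimeSpectrum.basicOpen x.1.2).2))).2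
  obtain ⟨t, ht⟩ := (isCompact_univ (X := WithConstructibleTopology (PrimeSpectrum R))).elim_finite_subcover _ ho
    (fun z _ => by
      obtain ⟨I, g, hI, hP, h1, h2⟩ := h (π z).asIdeal (π z).2
      exact Set.mem_iUnion.2 ⟨⟨(I, g), hI, hP⟩, h1, h2⟩)
  refine ⟨t.image Subtype.val, fun x hx => ?_, fun q hq => ?_⟩
  · obtain ⟨y, -, rfl⟩ := Finset.mem_image.1 hx
    exact y.2
  · obtain ⟨x, hx, hqx⟩ := Set.mem_iUnion₂.1 (ht (Set.mem_univ (WithTopology.toTopology _ (⟨q, hq⟩ : PrimeSpectrum R))))
    refine ⟨x.1, Finset.mem_image_of_mem _ hx, ?_⟩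
    have h' : (⟨q, hq⟩ : PrimeSpectrum R) ∈ Z x := by simpa [π] using hqx
    exact ⟨h'.1, h'.2⟩

/-- A point with values in a residue field of a finitely presented algebra spreads out over a finitely presented
piece around the prime. -/
theorem exists_piece_hom {R S : Type u} [CommRing R] [CommRing S] [Algebra R S] [Algebra.FinitePresentation R S]
    (q : Ideal R) [q.IsPrime] (ψ : S →ₐ[R] q.ResidueField) :
    ∃ (I : Ideal R) (g : R), I.FG ∧ I ≤ q ∧ g ∉ q ∧
      Nonempty (S →ₐ[R] Localization.Away g ⧸ I.map (algebraMap R (Localization.Away g))) := by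
  classical
  obtain ⟨n, π, hπ, hker⟩ := Algebra.FinitePresentation.out (R := R) (A := S)
  choose num hnum using fun i => IsLocalization.surj (nonZeroDivisors (R ⧸ q)) (ψ (π (MvPolynomial.X i)))
  choose a ha using fun i => Ideal.Quotient.mk_surjective (num i).1
  choose b hb using fun i => Ideal.Quotient.mk_surjective ((num i).2 : R ⧸ q)
  have hbq : ∀ i, b i ∉ q := fun i hbi => nonZeroDivisors.ne_zero (num i).2.2
    ((hb i).symm.trans (Ideal.Quotient.eq_zero_iff_mem.2 hbi))
  let g := ∏ i, b i
  have hg : g ∉ q := fun h => by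
    obtain ⟨i, -, hi⟩ := Ideal.IsPrime.prod_mem_iff.1 h
    exact hbq i hi
  let Rg := Localization.Away g
  have hgunit : IsUnit (algebraMap R q.ResidueField g) := isUnit_iff_ne_zero.2 fun h =>
    hg (Ideal.algebraMap_residueField_eq_zero.1 h)
  let l : Rg →+* q.ResidueField := IsLocalization.Away.lift g hgunit
  have hl : ∀ r, l (algebraMap R Rg r) = algebraMap R q.ResidueField r := fun r =>
    IsLocalization.Away.lift_eq g hgunit r
  let lA : Rg →ₐ[R] q.ResidueField := { l with commutes' := hl }
  have hbunit : ∀ i, IsUnit (algebraMap R Rg (b i)) := fun i => by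
    obtain ⟨c, hc⟩ := Finset.dvd_prod_of_mem b (Finset.mem_univ i)
    have := IsLocalization.Away.algebraMap_isUnit (S := Rg) g
    have h3 := congrArg (algebraMap R Rg) (show g = b i * c from hc)
    rw [map_mul] at h3
    exact isUnit_of_mul_isUnit_left (h3.subst this)
  let u : Fin n → Rg := fun i => algebraMap R Rg (a i) * ↑(hbunit i).unit⁻¹
  have hu : ∀ i, lA (u i) = ψ (π (MvPolynomial.X i)) := by
    intro i
    have h1 := hnum i
    rw [← ha, ← hb, ← Ideal.Quotient.algebraMap_eq, ← IsScalarTower.algebraMap_apply, ← IsScalarTower.algebraMap_apply] at h1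
    have h2 : lA (u i) * algebraMap R q.ResidueField (b i) = algebraMap R q.ResidueField (a i) := by
      rw [← lA.commutes (b i), ← map_mul, mul_assoc, (hbunit i).val_inv_mul, mul_one, lA.commutes]
    exact mul_right_cancel₀ (fun h => hbq i (Ideal.algebraMap_residueField_eq_zero.1 h)) (h2.trans h1.symm)
  let φ : MvPolynomial (Fin n) R →ₐ[R] Rg := MvPolynomial.aeval u
  have hφ : lA.comp φ = ψ.comp π := MvPolynomial.algHom_ext fun i => by
    simp only [AlgHom.comp_apply, φ, MvPolynomial.aeval_X]
    exact hu i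
  obtain ⟨G, hG⟩ := hker
  choose num' hnum' using fun r : MvPolynomial (Fin n) R => IsLocalization.surj (Submonoid.powers g) (φ r)
  let I : Ideal R := Ideal.span ↑(G.image fun r => (num' r).1)
  have hIq : I ≤ q := by
    refine Ideal.span_le.2 ?_
    intro z hz
    obtain ⟨r, hr, rfl⟩ := Finset.mem_image.1 hz
    refine Ideal.algebraMap_residueField_eq_zero.1 ?_
    rw [← lA.commutes, ← hnum' r, map_mul, show lA (φ r) = ψ (π r) from DFunLike.congr_fun hφ r,
      show π r = 0 from (hG ▸ Submodule.subset_span hr : r ∈ RingHom.ker π.toRingHom), map_zero, zero_mul]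
  let J := I.map (algebraMap R Rg)
  let φJ : MvPolynomial (Fin n) R →ₐ[R] Rg ⧸ J := (Ideal.Quotient.mkₐ R J).comp φ
  have hkill : RingHom.ker π.toRingHom ≤ RingHom.ker φJ.toRingHom := by
    rw [← hG]
    refine Submodule.span_le.2 fun r hr => ?_
    show Ideal.Quotient.mk J (φ r) = 0
    rw [Ideal.Quotient.eq_zero_iff_mem, ← Ideal.mul_unit_mem_iff_mem _ (IsLocalization.map_units Rg (num' r).2), hnum' r]
    exact Ideal.mem_map_of_mem _ (Ideal.subset_span (Finset.mem_image_of_mem _ hr))
  refine ⟨I, g, ⟨_, rfl⟩, hIq, hg, ⟨AlgHom.liftOfSurjective π hπ φJ hkill⟩⟩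

end Groth.Agent.ConstrCover
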